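import Cfsg.Agent.Leech.Unique.HSGraph
import Cfsg.Agent.Leech.Unique.SRGHundred
import Cfsg.Agent.HigSims.Model
import Cfsg.Prelude.Def_Sporadic

/-!
# The index two subgroup of the automorphism group of the graph on hundred vertices
-/

set_option autoImplicit false

namespace Cfsg.Agent.HSRankThree

open Cfsg Cfsg.Agent.Leech Cfsg.Agent.Leech.Unique

theorem spor_hs_equiv : Nonempty (↥Spor.HS ≃* ↥hsGroup) := by
  obtain ⟨f1, f2, f3, -, -, -⟩ := Leech.hV_facts
  have e : Spor.HS.subgroupOf Co0 =
      MulAction.stabilizer ↥Co0 Spor.leechV ⊓ MulAction.stabilizer ↥Co0 Spor.leechU' := by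
    ext g
    simp only [Subgroup.mem_subgroupOf, Spor.HS, Spor.Co3, Subgroup.mem_inf,
      MulAction.mem_stabilizer_iff]
    exact ⟨fun ⟨⟨_, a⟩, b⟩ => ⟨a, b⟩, fun ⟨a, b⟩ => ⟨⟨g.2, a⟩, b⟩⟩
  obtain ⟨g, g1, g2⟩ := Leech.trans_sixteen Spor.leechV Spor.leechU' Leech.hV Leech.hT
    (show sqNorm Spor.vecV = 48 by decide +kernel) f1
    (show sqNorm Spor.vecU' = 32 by decide +kernel) f2
    (show dotInt Spor.vecV Spor.vecU' = -16 by decide +kernel) f3
  obtain ⟨k⟩ := Leech.stab_pair_iso g Spor.leechV Spor.leechU'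
  rw [g1, g2] at k
  exact ⟨((Subgroup.subgroupOfEquivOfLe HigSims.le_co0).symm.trans
    (MulEquiv.subgroupCongr e)).trans k⟩

section

variable {α : Type*} [Fintype α] [DecidableEq α] {B : Set (Finset α)}

theorem graph_hs_iso (h : Big B 2) :
    ∃ H : Subgroup (pointBlockGraph B ≃g pointBlockGraph B), IsSimpleGroup H ∧
      Nat.card H = 44352000 ∧ Nonempty (↥H ≃* ↥Spor.HS) := by
  classical
  obtain ⟨vec, hinj, hrange, hvn, hadj⟩ := exists_model h
  have hmem : ∀ v, vec v ∈ MulAction.orbit ↥hsGroup Spor.leechU := fun v => by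
    rw [orbit_hsGroup, ← hrange]; exact ⟨v, rfl⟩
  let e : Option (α ⊕ B) ≃ MulAction.orbit ↥hsGroup Spor.leechU :=
    Equiv.ofBijective (fun v => ⟨vec v, hmem v⟩)
      ⟨fun x y hxy => hinj (congrArg Subtype.val hxy), fun z => by
        obtain ⟨v, hv⟩ : (z : leechLattice) ∈ Set.range vec := by
          rw [hrange, ← orbit_hsGroup]; exact z.2
        exact ⟨v, Subtype.ext hv⟩⟩
  have he : ∀ v, (e v : leechLattice) = vec v := fun v => rfl
  let perm : ↥hsGroup → (Option (α ⊕ B) ≃ Option (α ⊕ B)) := fun g =>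
    e.trans ((MulAction.toPerm g).trans e.symm)
  have hperm : ∀ g v, vec (perm g v) = (g : ↥Co0) • vec v := fun g v => by
    rw [← he, ← he]
    simp only [perm, Equiv.trans_apply, MulAction.toPerm_apply, Equiv.apply_symm_apply]
    rfl
  have hpadj : ∀ g x y, (pointBlockGraph B).Adj (perm g x) (perm g y) ↔
      (pointBlockGraph B).Adj x y := fun g x y => by
    rw [hadj, hadj, hperm, hperm]
    simp only [dotInt_smul, (perm g).injective.ne_iff]
  let φ : ↥hsGroup →* (pointBlockGraph B ≃g pointBlockGraph B) :=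
    MonoidHom.mk' (fun g => ⟨perm g, hpadj g _ _⟩) fun g k => RelIso.ext fun v => by
      show perm (g * k) v = perm g (perm k v)
      apply hinj
      rw [hperm, hperm, hperm]
      exact mul_smul _ _ _
  have hsimp := simple_hs
  have : IsSimpleGroup ↥hsGroup := hsimp.1
  have hker : φ.ker = ⊥ := by
    refine (Subgroup.Normal.eq_bot_or_eq_top inferInstance).resolve_right fun htop => ?_
    have hne : Nonempty α := Fintype.card_pos_iff.1 (by have := h.card; omega)
    obtain ⟨a⟩ := hne
    obtain ⟨g, hg⟩ := hmem (some (Sum.inl a))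
    have hg1 : φ g = 1 := (htop ▸ Subgroup.mem_top g : g ∈ φ.ker)
    have : perm g none = none := congrArg (fun z : pointBlockGraph B ≃g pointBlockGraph B => z none) hg1
    have h2 := hperm g none
    rw [this, hvn] at h2
    have h3 : vec (some (Sum.inl a)) = vec none := by
      rw [← hg, hvn]; exact h2.symm
    simpa using hinj h3
  let ψ : ↥hsGroup ≃* ↥φ.range := MonoidHom.ofInjective ((MonoidHom.ker_eq_bot_iff φ).1 hker)
  obtain ⟨k⟩ := spor_hs_equiv
  exact ⟨φ.range, MulEquiv.isSimpleGroup ψ.symm, by rw [← Nat.card_congr ψ.toEquiv, hsimp.2],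
    ⟨ψ.symm.trans k.symm⟩⟩

end

/-- A subgroup of index two in a finite group with a simple subgroup of index two coincides with
it. -/
theorem eq_of_index_two {A : Type*} [Group A] [Finite A] {H K : Subgroup A} [IsSimpleGroup H]
    (hH : H.index = 2) (hK : K.index = 2) (hbig : 2 < Nat.card H) : K = H := by
  have hKn : K.Normal := Subgroup.normal_of_index_eq_two hK
  have hle : H ≤ K := by
    rw [← Subgroup.subgroupOf_eq_top]
    refine (Subgroup.Normal.eq_bot_or_eq_top inferInstance).resolve_left fun hb => ?_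
    have h1 : K.relIndex H ∣ K.index := Subgroup.relIndex_dvd_index_of_normal K H
    have h2 : K.relIndex H = Nat.card H := by
      rw [Subgroup.relIndex, hb, Subgroup.index_bot]
    rw [hK, h2] at h1
    have := Nat.le_of_dvd (by norm_num) h1
    omega
  symm
  refine Subgroup.eq_of_le_of_card_ge hle ?_
  have h1 := H.card_mul_index
  have h2 := K.card_mul_index
  rw [hH] at h1
  rw [hK] at h2
  omega

/-- A subgroup of order 44352000 of the automorphism group of the graph is the Higman-Sims
group. -/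
theorem isoHS_of_card {V : Type*} [Fintype V] {Γ : SimpleGraph V} [DecidableRel Γ.Adj]
    (hΓ : Γ.IsSRGWith 100 22 0 6) (v₀ : V) (K : Subgroup (Γ ≃g Γ))
    (hK : Nat.card K = 44352000) : Nonempty (↥K ≃* ↥Spor.HS) := by
  classical
  obtain ⟨B, hB, ⟨f⟩⟩ := exists_steiner_of_srg hΓ v₀
  have hBig : Big B 2 := ⟨by norm_num, by
    rw [Fintype.card_subtype, ← SimpleGraph.neighborFinset_eq_filter,
      SimpleGraph.card_neighborFinset_eq_degree, hΓ.regular v₀], hB⟩
  let c : (pointBlockGraph B ≃g pointBlockGraph B) ≃* (Γ ≃g Γ) :=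
    { toFun := fun x => (f.symm.trans x).trans f
      invFun := fun x => (f.trans x).trans f.symm
      left_inv := fun x => RelIso.ext fun v => by simp
      right_inv := fun x => RelIso.ext fun v => by simp
      map_mul' := fun x y => RelIso.ext fun v => by simp }
  have hcard : Nat.card (Γ ≃g Γ) = 88704000 := by
    rw [← Nat.card_congr c.toEquiv, graph_aut_card hBig]
  obtain ⟨H, hs, hc, ⟨k⟩⟩ := graph_hs_iso hBig
  have : Finite (Γ ≃g Γ) := Nat.finite_of_card_ne_zero (by rw [hcard]; norm_num)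
  let e : ↥H ≃* ↥(H.map c.toMonoidHom) := H.equivMapOfInjective c.toMonoidHom c.injective
  have hc' : Nat.card ↥(H.map c.toMonoidHom) = 44352000 := by rw [← Nat.card_congr e.toEquiv, hc]
  have : IsSimpleGroup ↥(H.map c.toMonoidHom) := MulEquiv.isSimpleGroup e.symm
  have hidx : ∀ L : Subgroup (Γ ≃g Γ), Nat.card L = 44352000 → L.index = 2 := by
    intro L hL
    have := L.card_mul_index
    rw [hL, hcard] at this
    omega
  have heq : K = H.map c.toMonoidHom :=
    eq_of_index_two (hidx _ hc') (hidx _ hK) (by rw [hc']; norm_num)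
  exact ⟨((MulEquiv.subgroupCongr heq).trans e.symm).trans k⟩

end Cfsg.Agent.HSRankThree
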