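import Cfsg.Agent.HSRankThree.Parameters
import Cfsg.Agent.HSRankThree.Iso
import Cfsg.Agent.Compute.Mathieu
import Cfsg.Prelude.Def_Spor_Conway

/-!
# Rank three groups on 100 points with point stabiliser of order 443520
-/

set_option autoImplicit false

namespace Cfsg.Agent.HSRankThree

open MulAction

theorem main {Ω : Type*} [Fintype Ω] [DecidableEq Ω] (hΩ : Fintype.card Ω = 100)
    (G : Subgroup (Equiv.Perm Ω)) [IsPretransitive G Ω] (a : Ω)
    (hst : Nat.card (stabilizer G a) = 443520) (b c : Ω)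
    (hb : (orbit (stabilizer G a) b).ncard = 22) (hc : (orbit (stabilizer G a) c).ncard = 77) :
    Cfsg.Spor.IsoHS G := by
  classical
  let R : Ω → Ω → Prop := fun x y => ∃ g : G, g • a = x ∧ g • b = y
  have hRa : ∀ y, R a y ↔ y ∈ orbit (stabilizer G a) b := fun y =>
    ⟨fun ⟨g, hg, hy⟩ => ⟨⟨g, hg⟩, hy⟩, fun ⟨⟨g, hg⟩, hy⟩ => ⟨g, hg, hy⟩⟩
  have hRg : ∀ (g : G) x y, R (g • x) (g • y) ↔ R x y := fun g x y =>
    ⟨fun ⟨k, h1, h2⟩ => ⟨g⁻¹ * k, by rw [mul_smul, h1, inv_smul_smul],
      by rw [mul_smul, h2, inv_smul_smul]⟩,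
    fun ⟨k, h1, h2⟩ => ⟨g * k, by rw [mul_smul, h1], by rw [mul_smul, h2]⟩⟩
  -- the orbits of the stabiliser
  have hdis : ∀ {x y : Ω}, (orbit (stabilizer G a) x).ncard ≠ (orbit (stabilizer G a) y).ncard →
      Disjoint (orbit (stabilizer G a) x) (orbit (stabilizer G a) y) := by
    intro x y hxy
    rw [Set.disjoint_left]
    intro z hzx hzy
    exact hxy (by rw [← orbit_eq_iff.2 hzx, ← orbit_eq_iff.2 hzy])
  have horba : orbit (stabilizer G a) a = {a} := Set.Subset.antisymm
    (by rintro _ ⟨⟨g, hg⟩, rfl⟩; exact hg) (Set.singleton_subset_iff.2 (mem_orbit_self a))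
  have hna : ∀ {x : Ω}, (orbit (stabilizer G a) x).ncard ≠ 1 →
      a ∉ orbit (stabilizer G a) x := fun hx h => hx (by
    rw [← orbit_eq_iff.2 h, horba, Set.ncard_singleton])
  have hcover : ∀ x, x ≠ a → x ∈ orbit (stabilizer G a) b ∨ x ∈ orbit (stabilizer G a) c := by
    have hu : insert a (orbit (stabilizer G a) b ∪ orbit (stabilizer G a) c) = Set.univ := by
      refine Set.eq_of_subset_of_ncard_le (Set.subset_univ _) ?_ (Set.toFinite _)
      rw [Set.ncard_insert_of_notMem (fun h => h.elim (hna (by rw [hb]; norm_num))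
          (hna (by rw [hc]; norm_num))) (Set.toFinite _),
        Set.ncard_union_eq (hdis (by rw [hb, hc]; norm_num)) (Set.toFinite _) (Set.toFinite _),
        hb, hc, Set.ncard_univ, Nat.card_eq_fintype_card, hΩ]
    intro x hx
    have hmem : x ∈ insert a (orbit (stabilizer G a) b ∪ orbit (stabilizer G a) c) := by
      rw [hu]; trivial
    exact (Set.mem_insert_iff.1 hmem).resolve_left hx
  -- out and in neighbourhoods
  have hout : ∀ x, (Finset.univ.filter fun y => R x y).card = 22 := by
    intro x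
    obtain ⟨g, rfl⟩ := exists_smul_eq G a x
    have h1 : (Finset.univ.filter fun y => R (g • a) y) =
        (Finset.univ.filter fun y => R a y).image (g • ·) := by
      ext y
      simp only [Finset.mem_filter, Finset.mem_univ, true_and, Finset.mem_image]
      exact ⟨fun h => ⟨g⁻¹ • y, (hRg g a _).1 (by rwa [smul_inv_smul]), smul_inv_smul g y⟩,
        fun ⟨z, hz, e⟩ => e ▸ (hRg g a z).2 hz⟩
    rw [h1, Finset.card_image_of_injective _ (MulAction.injective g), ← hb,
      Set.ncard_eq_toFinset_card']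
    congr 1
    ext y
    simp [hRa]
  have hin : ∀ y, (Finset.univ.filter fun x => R x y).card = 22 := by
    have hconst : ∀ y, (Finset.univ.filter fun x => R x y).card =
        (Finset.univ.filter fun x => R x a).card := by
      intro y
      obtain ⟨g, rfl⟩ := exists_smul_eq G a y
      have h1 : (Finset.univ.filter fun x => R x (g • a)) =
          (Finset.univ.filter fun x => R x a).image (g • ·) := by
        ext x
        simp only [Finset.mem_filter, Finset.mem_univ, true_and, Finset.mem_image]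
        exact ⟨fun h => ⟨g⁻¹ • x, (hRg g _ a).1 (by rwa [smul_inv_smul]), smul_inv_smul g x⟩,
          fun ⟨z, hz, e⟩ => e ▸ (hRg g z a).2 hz⟩
      rw [h1, Finset.card_image_of_injective _ (MulAction.injective g)]
    have hdc : ∑ x : Ω, (Finset.univ.filter fun y => R x y).card =
        ∑ y : Ω, (Finset.univ.filter fun x => R x y).card := by
      simp only [Finset.card_filter]
      exact Finset.sum_comm
    rw [Finset.sum_congr rfl fun x _ => hout x, Finset.sum_congr rfl fun y _ => hconst y,
      Finset.sum_const, Finset.sum_const, Finset.card_univ, hΩ, smul_eq_mul, smul_eq_mul] at hdc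
    intro y
    rw [hconst y]
    omega
  have hne : ∀ x y, R x y → x ≠ y := by
    rintro x y ⟨g, rfl, rfl⟩ he
    have hab : a = b := MulAction.injective g he
    rw [← hab, horba, Set.ncard_singleton] at hb
    omega
  have hsa : ∀ y, R y a → R a y := by
    intro y hy
    have hinv : ∀ z ∈ orbit (stabilizer G a) y, R z a := by
      rintro _ ⟨⟨g, hg⟩, rfl⟩
      have := (hRg g y a).2 hy
      rwa [show g • a = a from hg] at this
    rcases hcover y (hne y a hy) with h | h
    · exact (hRa y).2 h
    · exfalso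
      have h1 : (orbit (stabilizer G a) c).ncard ≤ 22 := by
        rw [← orbit_eq_iff.2 h, ← hin a, ← Set.ncard_coe_finset]
        exact Set.ncard_le_ncard (fun z hz => Finset.mem_coe.2
          (Finset.mem_filter.2 ⟨Finset.mem_univ _, hinv z hz⟩)) (Finset.finite_toSet _)
      omega
  have hsymm : ∀ x y, R x y → R y x := by
    intro x y h
    obtain ⟨g, rfl⟩ := exists_smul_eq G a y
    rw [← smul_inv_smul g x] at h ⊢
    exact (hRg g a _).2 (hsa _ ((hRg g _ a).1 h))
  let Γ : SimpleGraph Ω := ⟨R, ⟨hsymm⟩, ⟨fun x h => hne x x h rfl⟩⟩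
  have hadj : ∀ (g : G) x y, Γ.Adj (g • x) (g • y) ↔ Γ.Adj x y := hRg
  have hmove : ∀ (g : G) x y, Fintype.card (Γ.commonNeighbors (g • x) (g • y)) =
      Fintype.card (Γ.commonNeighbors x y) := by
    intro g x y
    refine (Fintype.card_congr (Equiv.subtypeEquiv (MulAction.toPerm g) fun z => ?_)).symm
    show z ∈ Γ.commonNeighbors x y ↔ g • z ∈ Γ.commonNeighbors (g • x) (g • y)
    rw [SimpleGraph.mem_commonNeighbors, SimpleGraph.mem_commonNeighbors, hadj, hadj]
  have hsrg : Γ.IsSRGWith 100 22 (Fintype.card (Γ.commonNeighbors a b))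
      (Fintype.card (Γ.commonNeighbors a c)) := by
    refine ⟨hΩ, fun x => ?_, fun x y h => ?_, fun x y hxy h => ?_⟩
    · rw [← SimpleGraph.card_neighborFinset_eq_degree, SimpleGraph.neighborFinset_eq_filter]
      exact hout x
    · obtain ⟨g, rfl, rfl⟩ := (h : R x y)
      exact hmove g a b
    · obtain ⟨g, rfl⟩ := exists_smul_eq G a x
      rw [← smul_inv_smul g y] at hxy h ⊢
      have hne' : g⁻¹ • y ≠ a := fun e => hxy (by rw [e])
      rcases hcover _ hne' with h' | ⟨⟨k, hk⟩, e⟩
      · exact absurd ((hadj g a _).2 ((hRa _).2 h')) h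
      · have e' : k • c = g⁻¹ • y := e
        rw [hmove g a, ← e', ← hmove k a c, show k • a = a from hk]
  obtain ⟨hl, hμ⟩ := params hsrg a
  rw [hl, hμ] at hsrg
  -- the group as automorphisms of the graph
  let φ : G →* (Γ ≃g Γ) :=
    MonoidHom.mk' (fun g => ⟨(g : Equiv.Perm Ω), fun {x y} => hRg g x y⟩)
      fun g k => RelIso.ext fun x => rfl
  have hinj : Function.Injective φ := fun g k e => Subtype.ext (Equiv.ext fun x =>
    congrArg (fun z : Γ ≃g Γ => z x) e)
  have hcard : Nat.card G = 44352000 := by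
    have h1 := (stabilizer G a).card_mul_index
    rw [index_stabilizer_of_transitive, hst, Nat.card_eq_fintype_card, hΩ] at h1
    omega
  obtain ⟨k⟩ := isoHS_of_card hsrg a φ.range
    (by rw [← Nat.card_congr (MonoidHom.ofInjective hinj).toEquiv, hcard])
  exact ⟨(MonoidHom.ofInjective hinj).trans k⟩

end Cfsg.Agent.HSRankThree
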