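import Mathlib

/-!
# The parameters of a strongly regular graph on 100 vertices of valency 22
-/

set_option autoImplicit false

namespace Cfsg.Agent.HSRankThree

theorem exists_nat_trace {V : Type*} [Fintype V] [DecidableEq V] (E : Matrix V V ℚ)
    (h : E * E = E) : ∃ r : ℕ, E.trace = r := by
  have hid : IsIdempotentElem (Matrix.toLin' E) := by
    show Matrix.toLin' E ∘ₗ Matrix.toLin' E = Matrix.toLin' E
    rw [← Matrix.toLin'_mul, h]
  refine ⟨Module.finrank ℚ (LinearMap.range (Matrix.toLin' E)), ?_⟩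
  have h1 := (LinearMap.IsProj.trace (LinearMap.IsIdempotentElem.isProj_range _ hid))
  rwa [Matrix.trace_toLin'_eq] at h1

variable {V : Type*} [Fintype V] {Γ : SimpleGraph V} [DecidableRel Γ.Adj]

theorem params {l μ : ℕ} (h : Γ.IsSRGWith 100 22 l μ) (v₀ : V) : l = 0 ∧ μ = 6 := by
  classical
  have hl : l ≤ 21 := by
    obtain ⟨w, hw⟩ : (Γ.neighborFinset v₀).Nonempty := Finset.card_pos.1 (by
      rw [Γ.card_neighborFinset_eq_degree, h.regular v₀]; norm_num)
    rw [SimpleGraph.mem_neighborFinset] at hw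
    rw [← h.of_adj v₀ w hw, ← Set.toFinset_card]
    refine le_trans (Finset.card_le_card (t := (Γ.neighborFinset v₀).erase w) fun x hx => ?_) ?_
    · rw [Set.mem_toFinset, SimpleGraph.mem_commonNeighbors] at hx
      rw [Finset.mem_erase, SimpleGraph.mem_neighborFinset]
      exact ⟨fun e => Γ.irrefl (e ▸ hx.2), hx.1⟩
    · rw [Finset.card_erase_of_mem (by simpa using hw), Γ.card_neighborFinset_eq_degree,
        h.regular v₀]
  have hp := SimpleGraph.IsSRGWith.param_eq Γ h (by norm_num)
  have hcases : (l = 0 ∧ μ = 6) ∨ (l = 7 ∧ μ = 4) ∨ (l = 14 ∧ μ = 2) ∨ (l = 21 ∧ μ = 0) := by omega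
  rcases hcases with h0 | ⟨rfl, rfl⟩ | ⟨rfl, rfl⟩ | ⟨rfl, rfl⟩
  · exact h0
  · -- eigenvalues `6` and `-3`
    exfalso
    set A := Γ.adjMatrix ℚ with hA
    let J : Matrix V V ℚ := Matrix.of fun _ _ => 1
    let E : Matrix V V ℚ := (1 / 9 : ℚ) • (A + (3 : ℚ) • 1 - (1 / 4 : ℚ) • J)
    have hsq : A * A = (18 : ℚ) • 1 + (3 : ℚ) • A + (4 : ℚ) • J := by
      have := h.matrix_eq (α := ℚ)
      rw [pow_two, ← hA] at this
      rw [this]
      simp only [← Nat.cast_smul_eq_nsmul ℚ]
      ext i j
      by_cases hij : i = j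
      · subst hij; simp [J, hA]; norm_num
      · by_cases ha : Γ.Adj i j <;> simp [J, hA, hij, ha]
        norm_num
    have hAJ : A * J = (22 : ℚ) • J := by
      ext i j
      simp [J, hA, Matrix.smul_apply, h.regular i]
    have hJA : J * A = (22 : ℚ) • J := by
      ext i j
      simp [J, hA, Matrix.smul_apply, h.regular j]
    have hJJ : J * J = (100 : ℚ) • J := by
      ext i j
      simp [J, Matrix.mul_apply, h.card]
    have hE : E * E = E := by
      simp only [E, Matrix.smul_mul, Matrix.mul_smul, add_mul, mul_add, sub_mul, mul_sub,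
        Matrix.one_mul, Matrix.mul_one, hsq, hAJ, hJA, hJJ]
      module
    obtain ⟨r, hr⟩ := exists_nat_trace E hE
    have htr : E.trace = 275 / 9 := by
      simp [E, J, hA, Matrix.trace_smul, Matrix.trace, h.card, Finset.sum_add_distrib,
        Finset.sum_sub_distrib]
      norm_num
    have h1 : ((9 * r : ℕ) : ℚ) = ((275 : ℕ) : ℚ) := by rw [htr] at hr; push_cast; linarith
    have h2 : 9 * r = 275 := by exact_mod_cast h1
    omega
  · -- two non-adjacent vertices in a neighbourhood
    exfalso
    set N := Γ.neighborFinset v₀ with hN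
    have hNc : N.card = 22 := by rw [hN, Γ.card_neighborFinset_eq_degree, h.regular v₀]
    have hdeg : ∀ x ∈ N, (N ∩ Γ.neighborFinset x).card = 14 := by
      intro x hx
      rw [← h.of_adj v₀ x (by simpa [hN] using hx), ← Set.toFinset_card]
      congr 1
      ext y
      rw [Set.mem_toFinset, SimpleGraph.mem_commonNeighbors]
      simp [hN]
    obtain ⟨x, hx⟩ := Finset.card_pos.1 (hNc ▸ (by norm_num : 0 < 22) : 0 < N.card)
    obtain ⟨y, hyN, hy⟩ : ∃ y ∈ N, y ∉ insert x (N ∩ Γ.neighborFinset x) := by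
      by_contra! hall
      have := (Finset.card_le_card hall).trans (Finset.card_insert_le _ _)
      rw [hdeg x hx, hNc] at this
      omega
    rw [Finset.mem_insert, Finset.mem_inter, not_or, SimpleGraph.mem_neighborFinset] at hy
    have hna : ¬ Γ.Adj x y := fun ha => hy.2 ⟨by simpa [hN] using hyN, by simpa using ha⟩
    have h2 := h.of_not_adj (Ne.symm hy.1) hna
    rw [← Set.toFinset_card] at h2
    have hsub : (N ∩ Γ.neighborFinset x) ∩ (N ∩ Γ.neighborFinset y) ⊆
        (Γ.commonNeighbors x y).toFinset := fun z hz => by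
      simp only [Finset.mem_inter, SimpleGraph.mem_neighborFinset] at hz
      rw [Set.mem_toFinset, SimpleGraph.mem_commonNeighbors]
      exact ⟨hz.1.2, hz.2.2⟩
    have hsub2 : (N ∩ Γ.neighborFinset x) ∪ (N ∩ Γ.neighborFinset y) ⊆ N :=
      Finset.union_subset Finset.inter_subset_left Finset.inter_subset_left
    have h3 := Finset.card_union_add_card_inter (N ∩ Γ.neighborFinset x) (N ∩ Γ.neighborFinset y)
    have h4 := Finset.card_le_card hsub
    have h5 := Finset.card_le_card hsub2
    rw [hdeg x hx, hdeg y hyN] at h3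
    omega
  · -- a union of complete graphs
    exfalso
    set A := Γ.adjMatrix ℚ with hA
    let E : Matrix V V ℚ := (1 / 23 : ℚ) • (A + 1)
    have hsq : A * A = (22 : ℚ) • 1 + (21 : ℚ) • A := by
      have := h.matrix_eq (α := ℚ)
      rw [pow_two, ← hA] at this
      rw [this]
      simp only [← Nat.cast_smul_eq_nsmul ℚ]
      ext i j
      by_cases hij : i = j
      · subst hij; simp [hA]
      · simp [hA, hij]
    have hE : E * E = E := by
      simp only [E, Matrix.smul_mul, Matrix.mul_smul, add_mul, mul_add, Matrix.one_mul,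
        Matrix.mul_one, hsq]
      module
    obtain ⟨r, hr⟩ := exists_nat_trace E hE
    have htr : E.trace = 100 / 23 := by
      simp [E, hA, Matrix.trace_smul, h.card]
      norm_num
    have h1 : ((23 * r : ℕ) : ℚ) = ((100 : ℕ) : ℚ) := by rw [htr] at hr; push_cast; linarith
    have h2 : 23 * r = 100 := by exact_mod_cast h1
    omega

end Cfsg.Agent.HSRankThree
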